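import Cfsg.Agent.H769.OZ.Levi

/-!
# Blocks of a Witt frame (helper754, S4791: (D4)(iii))

`Blk Fr lo hi s` : the span of the `b (k, s)`, `lo ≤ k < hi`.
* `Blk_succ`, `Blk_zero` : `Blk` in terms of `E`, `Pp`; `StE_Blk`;
* `Rst Fr lo hi` : the vectors orthogonal to both blocks; `fix_rst`;
* `GA Fr lo hi` : the group generated by the root elements of the block; `exists_order` : it contains elements of order `p`,
  `p ∣ q ^ (hi - lo) - 1`, `2 ≤ hi - lo`.
-/

set_option autoImplicit false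
set_option linter.unusedSectionVars false

namespace Cfsg.Agent.H754.XZ

open Cfsg.Agent.ChevalleyStructure.CoxeterGeom Cfsg.Agent.Tits.Roots Cfsg.Agent.Nodes.TypeC
open Cfsg.Agent.Nodes Cfsg.Agent.Nodes.Comb Cfsg.Agent.Nodes.Reps Cfsg.Agent.Nodes.WittRoot Cfsg.Agent.Nodes.BNOf
open Cfsg.Agent.Nodes.WittRGD Cfsg.Agent.Nodes.RGDLib Cfsg.Agent.Nodes.WittAll Cfsg.Agent.Nodes.StabComb
open Cfsg.Agent.Nodes.Bruhat Cfsg.Agent.Nodes.OppDec Cfsg.Agent.Nodes.LeviDec
open Cfsg.Agent.TitsThree Cfsg.Agent.TitsThree.Siegel Cfsg.Agent.TitsThree.WittFrame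
  Cfsg.Agent.TitsThree.WittWeyl Cfsg.Agent.TitsThree.FrameCN
open Cfsg.Agent.H769.OZ

variable {F : Type*} [Field F] {V : Type*} [AddCommGroup V] [Module F V] {H : HForm F V} {m : ℕ}
  (Fr : Frame H (Fin m))

/-- the span of a block -/
def Blk (lo hi : ℕ) (s : Bool) : Submodule F V :=
  Submodule.span F {v | ∃ k : Fin m, lo ≤ (k : ℕ) ∧ (k : ℕ) < hi ∧ v = Fr.b (k, s)}

variable {Fr}

theorem b_mem_Blk {lo hi : ℕ} {k : Fin m} (h1 : lo ≤ (k : ℕ)) (h2 : (k : ℕ) < hi) (s : Bool) :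
    Fr.b (k, s) ∈ Blk Fr lo hi s := Submodule.subset_span ⟨k, h1, h2, rfl⟩

theorem Blk_le_E {lo hi : ℕ} {k : Fin m} (h : hi ≤ (k : ℕ) + 1) (s : Bool) : Blk Fr lo hi s ≤ E Fr k s := by
  refine Submodule.span_mono ?_
  rintro v ⟨i, -, h2, rfl⟩
  exact ⟨i, Fin.le_def.2 (by omega), rfl⟩

theorem mem_Blk {lo hi : ℕ} {k : Fin m} (h : (k : ℕ) + 1 ≤ hi) {s : Bool} {v : V} (hv : v ∈ E Fr k s)
    (h0 : ∀ j : Fin m, (j : ℕ) < lo → H.h v (Fr.b (j, !s)) = 0) : v ∈ Blk Fr lo hi s := by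
  rw [eq_cmp hv]
  unfold Cfsg.Agent.H769.OZ.cmp
  refine Submodule.sum_mem _ fun i hi' => ?_
  have hi2 : (i : ℕ) ≤ k := Fin.le_def.1 (Finset.mem_Iic.1 hi')
  by_cases hlo : (i : ℕ) < lo
  · have h1 := h0 i hlo
    cases s
    · rw [Bool.not_false] at h1
      simp only [Bool.false_eq_true, if_false]
      rw [h1, mul_zero, zero_smul]
      exact zero_mem _
    · rw [Bool.not_true] at h1
      simp only [if_true]
      rw [h1, zero_smul]
      exact zero_mem _
  · exact Submodule.smul_mem _ _ (b_mem_Blk (not_lt.1 hlo) (by omega) s)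

theorem Blk_zero (k : Fin m) (s : Bool) : Blk Fr 0 ((k : ℕ) + 1) s = E Fr k s :=
  le_antisymm (Blk_le_E le_rfl s) fun _ hv => mem_Blk le_rfl hv fun _ hj => absurd hj (Nat.not_lt_zero _)

theorem Blk_succ (k0 k : Fin m) (s : Bool) :
    Blk Fr ((k0 : ℕ) + 1) ((k : ℕ) + 1) s = E Fr k s ⊓ Pp Fr k0 (!s) := by
  apply le_antisymm
  · refine le_inf (Blk_le_E le_rfl s) (Submodule.span_le.2 ?_)
    rintro _ ⟨i, h1, -, rfl⟩
    exact b_mem_Pp (Or.inr (Fin.lt_def.2 (by simpa using h1)))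
  · rintro v ⟨h1, h2⟩
    exact mem_Blk le_rfl h1 fun j hj => h2 j (Fin.le_def.2 (by omega))

theorem StE_inf {A B : Submodule F V} {g : V ≃ₗ[F] V} (h1 : g ∈ StE A) (h2 : g ∈ StE B) : g ∈ StE (A ⊓ B) :=
  fun v => and_congr (h1 v) (h2 v)

/-- an isometry preserving the flags preserves the blocks -/
theorem StE_Blk {lo hi : ℕ} {g : V ≃ₗ[F] V} (hg : H.IsIso g) {k : Fin m} (hk : (k : ℕ) + 1 = hi)
    (h1 : ∀ s, g ∈ StE (E Fr k s)) (h0 : lo = 0 ∨ ∃ k0 : Fin m, (k0 : ℕ) + 1 = lo ∧ ∀ s, g ∈ StE (E Fr k0 s)) (s : Bool) :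
    g ∈ StE (Blk Fr lo hi s) := by
  subst hk
  rcases h0 with rfl | ⟨k0, rfl, h0⟩
  · rw [Blk_zero]
    exact h1 s
  · rw [Blk_succ]
    exact StE_inf (h1 s) (StE_Pp hg (h0 _))

variable (Fr) in
/-- orthogonal to both blocks -/
def Rst (lo hi : ℕ) (v : V) : Prop :=
  ∀ k : Fin m, lo ≤ (k : ℕ) → (k : ℕ) < hi → ∀ s, H.h v (Fr.b (k, s)) = 0

theorem rst_b {lo hi : ℕ} {k : Fin m} (h : (k : ℕ) < lo ∨ hi ≤ (k : ℕ)) (s : Bool) : Rst Fr lo hi (Fr.b (k, s)) := by
  intro j h1 h2 t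
  refine Fr.hb_of_ne fun e => ?_
  have : (k : ℕ) = j := congrArg Fin.val e
  omega

theorem rst_V0 {lo hi : ℕ} {v : V} (hv : v ∈ Fr.V0) : Rst Fr lo hi v := fun _ _ _ _ => Fr.h0' _ hv

theorem Rst.blk {lo hi : ℕ} {v : V} (hv : Rst Fr lo hi v) {s : Bool} {w : V} (hw : w ∈ Blk Fr lo hi s) :
    H.h v w = 0 := by
  refine Submodule.span_induction (p := fun w _ => H.h v w = 0) ?_ ?_ ?_ ?_ hw
  · rintro _ ⟨k, h1, h2, rfl⟩
    exact hv k h1 h2 s
  · exact H.zero_right _
  · intro x y _ _ hx hy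
    rw [H.add_right, hx, hy, add_zero]
  · intro c x _ hx
    rw [H.smul_right, hx, mul_zero]

theorem Rst.map {lo hi : ℕ} {g : V ≃ₗ[F] V} (hg : H.IsIso g) (h : ∀ s, g ∈ StE (Blk Fr lo hi s)) {v : V}
    (hv : Rst Fr lo hi v) : Rst Fr lo hi (g v) := by
  intro k h1 h2 s
  have h3 : g⁻¹ (Fr.b (k, s)) ∈ Blk Fr lo hi s := by
    rw [← h s, apply_inv_self]
    exact b_mem_Blk h1 h2 s
  have h4 := hv.blk h3
  rw [← hg, apply_inv_self] at h4
  exact h4

theorem h_sum_univ (v : V) (c : Fin m × Bool → F) (u : Fin m × Bool → V) :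
    H.h (∑ i, c i • u i) v = ∑ i, c i * H.h (u i) v := by
  have : ∀ s : Finset (Fin m × Bool), H.h (∑ x ∈ s, c x • u x) v = ∑ x ∈ s, c x * H.h (u x) v := by
    intro s
    induction s using Finset.induction_on with
    | empty => simp [H.zero_left]
    | insert a s ha ih => rw [Finset.sum_insert ha, Finset.sum_insert ha, H.add_left, H.smul_left, ih]
  exact this _

/-- an element fixing the frame outside the block and `V0` fixes the vectors orthogonal to the blocks -/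
theorem fix_rst (hV0 : ∀ v, (∀ x, H.h v (Fr.b x) = 0) → v ∈ Fr.V0) {lo hi : ℕ} {g : V ≃ₗ[F] V}
    (hb : ∀ (k : Fin m) (s : Bool), ((k : ℕ) < lo ∨ hi ≤ (k : ℕ)) → g (Fr.b (k, s)) = Fr.b (k, s))
    (h0 : ∀ w ∈ Fr.V0, g w = w) {v : V} (hv : Rst Fr lo hi v) : g v = v := by
  set u : V := ∑ x, (H.h v (Fr.b (neg x)) * (Fr.η (neg x))⁻¹) • Fr.b x with hu
  have h1 : v - u ∈ Fr.V0 := by
    apply hV0
    intro y
    rw [H.sub_left, sub_eq_zero]
    rw [hu, h_sum_univ, Finset.sum_eq_single (neg y)]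
    · rw [WittFrame.neg_neg, Fr.hb_neg_self]
      have := Fr.η_ne y
      field_simp
    · intro x _ hx
      rw [Fr.hb_ne, mul_zero]
      rintro rfl
      exact hx (WittFrame.neg_neg x).symm
    · intro h; exact absurd (Finset.mem_univ _) h
  have h2 : g u = u := by
    rw [hu, map_sum]
    refine Finset.sum_congr rfl fun x _ => ?_
    rw [map_smul]
    by_cases hx : (x.1 : ℕ) < lo ∨ hi ≤ (x.1 : ℕ)
    · rw [show x = (x.1, x.2) from rfl, hb _ _ hx]
    · push Not at hx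
      have : H.h v (Fr.b (neg x)) = 0 := hv x.1 hx.1 hx.2 (!x.2)
      rw [this, zero_mul, zero_smul, zero_smul]
  have h3 : v = (v - u) + u := by abel
  rw [h3, map_add, h0 _ h1, h2]

/-! ### The group of the block -/

variable (Fr) in
/-- the group generated by the root elements of the block -/
def GA (lo hi : ℕ) : Subgroup (V ≃ₗ[F] V) :=
  Subgroup.closure {g | ∃ a b : Fin m, a ≠ b ∧ lo ≤ (a : ℕ) ∧ (a : ℕ) < hi ∧ lo ≤ (b : ℕ) ∧ (b : ℕ) < hi ∧
    ∃ t, g = Fr.X (a, true) (b, false) t}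

theorem X_mem_GA {lo hi : ℕ} {a b : Fin m} (hab : a ≠ b) (h1 : lo ≤ (a : ℕ)) (h2 : (a : ℕ) < hi) (h3 : lo ≤ (b : ℕ))
    (h4 : (b : ℕ) < hi) (t : F) : Fr.X (a, true) (b, false) t ∈ GA Fr lo hi :=
  Subgroup.subset_closure ⟨a, b, hab, h1, h2, h3, h4, t, rfl⟩

/-- the fixator of a vector -/
def FixE (v : V) : Subgroup (V ≃ₗ[F] V) where
  carrier := {g | g v = v}
  one_mem' := rfl
  mul_mem' {a b} ha hb := by
    change a (b v) = v
    rw [show b v = v from hb]
    exact ha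
  inv_mem' {a} ha := by
    change a⁻¹ v = v
    conv_lhs => rw [← show a v = v from ha]
    exact inv_apply_self a v

theorem GA_fix_b {lo hi : ℕ} {g : V ≃ₗ[F] V} (hg : g ∈ GA Fr lo hi) (k : Fin m) (s : Bool)
    (hk : (k : ℕ) < lo ∨ hi ≤ (k : ℕ)) : g (Fr.b (k, s)) = Fr.b (k, s) := by
  have : GA Fr lo hi ≤ FixE (Fr.b (k, s)) := by
    refine (Subgroup.closure_le _).2 ?_
    rintro _ ⟨a, b, hab, h1, h2, h3, h4, t, rfl⟩
    change Fr.X (a, true) (b, false) t (Fr.b (k, s)) = Fr.b (k, s)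
    refine X_apply_of_ne Fr (x := (a, true)) (y := (b, false)) hab ?_ ?_ t
    · intro e
      have : (k : ℕ) = a := congrArg (fun z : Fin m × Bool => (z.1 : ℕ)) e
      omega
    · intro e
      have : (k : ℕ) = b := congrArg (fun z : Fin m × Bool => (z.1 : ℕ)) e
      omega
  exact this hg

theorem GA_fix_V0 {lo hi : ℕ} {g : V ≃ₗ[F] V} (hg : g ∈ GA Fr lo hi) {v : V} (hv : v ∈ Fr.V0) : g v = v := by
  have : GA Fr lo hi ≤ FixE v := by
    refine (Subgroup.closure_le _).2 ?_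
    rintro _ ⟨a, b, hab, h1, h2, h3, h4, t, rfl⟩
    exact X_apply_V0 Fr (x := (a, true)) (y := (b, false)) hab hv t
  exact this hg

theorem GA_StE {lo hi : ℕ} {g : V ≃ₗ[F] V} (hg : g ∈ GA Fr lo hi) (s : Bool) : g ∈ StE (Blk Fr lo hi s) := by
  have : GA Fr lo hi ≤ StE (Blk Fr lo hi s) := by
    refine (Subgroup.closure_le _).2 ?_
    rintro _ ⟨a, b, hab, h1, h2, h3, h4, t, rfl⟩
    have key : ∀ t : F, ∀ v ∈ Blk Fr lo hi s, Fr.X (a, true) (b, false) t v ∈ Blk Fr lo hi s := by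
      intro t v hv
      refine Submodule.span_induction (p := fun v _ => Fr.X (a, true) (b, false) t v ∈ Blk Fr lo hi s) ?_ ?_ ?_ ?_ hv
      · rintro _ ⟨k, h5, h6, rfl⟩
        cases s
        · by_cases hk : k = a
          · subst hk
            have := X_apply_neg' Fr (x := (k, true)) (y := (b, false)) hab t
            rw [show neg ((k, true) : Fin m × Bool) = (k, false) from rfl] at this
            rw [this]
            exact sub_mem (b_mem_Blk h5 h6 _) (Submodule.smul_mem _ _ (b_mem_Blk h3 h4 _))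
          · rw [X_apply_of_ne Fr (x := (a, true)) (y := (b, false)) hab]
            · exact b_mem_Blk h5 h6 _
            · intro e
              exact hk (congrArg Prod.fst e)
            · intro e
              have := congrArg Prod.snd e
              simp [neg] at this
        · by_cases hk : k = b
          · subst hk
            have := X_apply_neg Fr (x := (a, true)) (y := (k, false)) hab t
            rw [show neg ((k, false) : Fin m × Bool) = (k, true) from rfl] at this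
            rw [this]
            exact add_mem (b_mem_Blk h5 h6 _) (Submodule.smul_mem _ _ (b_mem_Blk h1 h2 _))
          · rw [X_apply_of_ne Fr (x := (a, true)) (y := (b, false)) hab]
            · exact b_mem_Blk h5 h6 _
            · intro e
              have := congrArg Prod.snd e
              simp [neg] at this
            · intro e
              exact hk (congrArg Prod.fst e)
      · rw [map_zero]
        exact zero_mem _
      · intro x y _ _ hx hy
        rw [map_add]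
        exact add_mem hx hy
      · intro c x _ hx
        rw [map_smul]
        exact Submodule.smul_mem _ _ hx
    intro v
    refine ⟨fun h => ?_, key t v⟩
    have := key (-t) _ h
    rw [Fr.X_neg, inv_apply_self] at this
    exact this
  exact this hg

end Cfsg.Agent.H754.XZ
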