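import Cfsg.Agent.H754.XZ.BlkLin

/-!
# Elements of order `p` of the group of a block of a Witt frame (helper754, S4791: (D4)(iii-a), `e ≥ 2`)

* `orbit_eq` : `GA Fr lo hi` is transitive on the nonzero vectors of `Blk Fr lo hi true`, if `2 ≤ hi - lo`;
* `dvd_card` : `|F| ^ (hi - lo) - 1` divides `|GA|`; `exists_order`.
-/

set_option autoImplicit false
set_option linter.unusedSectionVars false

namespace Cfsg.Agent.H754.XZ

open Cfsg.Agent.ChevalleyStructure.CoxeterGeom Cfsg.Agent.Tits.Roots Cfsg.Agent.Nodes.TypeC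
open Cfsg.Agent.Nodes Cfsg.Agent.Nodes.Comb Cfsg.Agent.Nodes.Reps Cfsg.Agent.Nodes.WittRoot Cfsg.Agent.Nodes.BNOf
open Cfsg.Agent.Nodes.WittRGD Cfsg.Agent.Nodes.RGDLib Cfsg.Agent.Nodes.WittAll Cfsg.Agent.Nodes.StabComb
open Cfsg.Agent.Nodes.Bruhat Cfsg.Agent.Nodes.OppDec Cfsg.Agent.Nodes.LeviDec
open Cfsg.Agent.TitsThree Cfsg.Agent.TitsThree.Siegel Cfsg.Agent.TitsThree.WittFrame
  Cfsg.Agent.TitsThree.WittWeyl Cfsg.Agent.TitsThree.FrameCN
open Cfsg.Agent.H769.OZ

variable {F : Type*} [Field F] {V : Type*} [AddCommGroup V] [Module F V] {H : HForm F V} {m : ℕ}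

/-- the indices of the block -/
abbrev BI (m lo hi : ℕ) : Type := {k : Fin m // lo ≤ (k : ℕ) ∧ (k : ℕ) < hi}

variable (Fr : Frame H (Fin m)) (lo hi : ℕ)

/-- the vector with the coordinates `c` -/
noncomputable def vec : (BI m lo hi → F) →ₗ[F] V :=
  Fintype.linearCombination F (fun k : BI m lo hi => Fr.b (k.1, true))

variable {Fr lo hi}

theorem vec_apply (c : BI m lo hi → F) : vec Fr lo hi c = ∑ k, c k • Fr.b (k.1, true) := by
  unfold vec
  rw [Fintype.linearCombination_apply]

theorem vec_single (k : BI m lo hi) : vec Fr lo hi (Pi.single k 1) = Fr.b (k.1, true) := by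
  unfold vec
  rw [Fintype.linearCombination_apply_single, one_smul]

theorem h_vec (c : BI m lo hi → F) (k : BI m lo hi) : H.h (vec Fr lo hi c) (Fr.b (k.1, false)) = c k := by
  rw [vec_apply]
  have : ∀ s : Finset (BI m lo hi), H.h (∑ x ∈ s, c x • Fr.b (x.1, true)) (Fr.b (k.1, false)) =
      ∑ x ∈ s, c x * H.h (Fr.b (x.1, true)) (Fr.b (k.1, false)) := by
    intro s
    induction s using Finset.induction_on with
    | empty => simp [H.zero_left]
    | insert a s ha ih => rw [Finset.sum_insert ha, Finset.sum_insert ha, H.add_left, H.smul_left, ih]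
  rw [this, Finset.sum_eq_single k]
  · rw [Fr.hb]
    simp
  · intro x _ hx
    rw [Fr.hb_of_ne (x := (x.1, true)) (y := (k.1, false)) fun e => hx (Subtype.ext e), mul_zero]
  · intro h
    exact absurd (Finset.mem_univ _) h

theorem vec_inj : Function.Injective (vec Fr lo hi) := by
  intro c d e
  funext k
  rw [← h_vec (Fr := Fr) c k, ← h_vec (Fr := Fr) d k, e]

theorem mem_Blk_iff {v : V} : v ∈ Blk Fr lo hi true ↔ ∃ c, vec Fr lo hi c = v := by
  constructor
  · intro hv
    refine Submodule.span_induction (p := fun v _ => ∃ c, vec Fr lo hi c = v) ?_ ?_ ?_ ?_ hv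
    · rintro _ ⟨k, h1, h2, rfl⟩
      exact ⟨Pi.single ⟨k, h1, h2⟩ 1, vec_single _⟩
    · exact ⟨0, map_zero _⟩
    · rintro x y _ _ ⟨c, rfl⟩ ⟨d, rfl⟩
      exact ⟨c + d, map_add _ _ _⟩
    · rintro a x _ ⟨c, rfl⟩
      exact ⟨a • c, map_smul _ _ _⟩
  · rintro ⟨c, rfl⟩
    rw [vec_apply]
    exact Submodule.sum_mem _ fun k _ => Submodule.smul_mem _ _ (b_mem_Blk k.2.1 k.2.2 _)

theorem X_vec {a b : BI m lo hi} (hab : a ≠ b) (t : F) (c : BI m lo hi → F) :
    Fr.X (a.1, true) (b.1, false) t (vec Fr lo hi c) = vec Fr lo hi (Function.update c a (c a + t * c b)) := by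
  have hab' : ((a.1, true) : Fin m × Bool).1 ≠ ((b.1, false) : Fin m × Bool).1 := fun e => hab (Subtype.ext e)
  have h1 : ∀ k : BI m lo hi, Fr.X (a.1, true) (b.1, false) t (Fr.b (k.1, true)) =
      Fr.b (k.1, true) + (if k = b then t else 0) • Fr.b (a.1, true) := by
    intro k
    split_ifs with hk
    · subst hk
      exact X_apply_neg Fr (x := (a.1, true)) (y := (k.1, false)) hab' t
    · rw [zero_smul, add_zero]
      refine X_apply_of_ne Fr hab' ?_ ?_ t
      · intro e
        have := congrArg Prod.snd e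
        simp [neg] at this
      · intro e
        exact hk (Subtype.ext (congrArg Prod.fst e))
  have h2 : Function.update c a (c a + t * c b) = c + (t * c b) • Pi.single a 1 := by
    funext k
    by_cases hk : k = a
    · subst hk
      simp
    · simp [Function.update_of_ne hk, Pi.single_eq_of_ne hk]
  rw [h2, map_add, map_smul, vec_single, vec_apply, map_sum]
  simp only [map_smul, h1, smul_add, Finset.sum_add_distrib]
  congr 1
  rw [Finset.sum_eq_single b]
  · rw [if_pos rfl, smul_smul, mul_comm]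
  · intro x _ hx
    rw [if_neg hx, zero_smul, smul_zero]
  · intro h
    exact absurd (Finset.mem_univ _) h

/-- in the same orbit -/
def Rel (Fr : Frame H (Fin m)) (lo hi : ℕ) (c d : BI m lo hi → F) : Prop :=
  ∃ g ∈ GA Fr lo hi, g (vec Fr lo hi c) = vec Fr lo hi d

theorem Rel.refl (c : BI m lo hi → F) : Rel Fr lo hi c c := ⟨1, one_mem _, rfl⟩

theorem Rel.symm {c d : BI m lo hi → F} (h : Rel Fr lo hi c d) : Rel Fr lo hi d c := by
  obtain ⟨g, hg, e⟩ := h
  exact ⟨g⁻¹, inv_mem hg, by rw [← e, inv_apply_self]⟩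

theorem Rel.trans {c d e : BI m lo hi → F} (h : Rel Fr lo hi c d) (h' : Rel Fr lo hi d e) : Rel Fr lo hi c e := by
  obtain ⟨g, hg, h1⟩ := h
  obtain ⟨k, hk, h2⟩ := h'
  refine ⟨k * g, mul_mem hk hg, ?_⟩
  change k (g (vec Fr lo hi c)) = _
  rw [h1, h2]

theorem step {a b : BI m lo hi} (hab : a ≠ b) (t : F) (c : BI m lo hi → F) :
    Rel Fr lo hi c (Function.update c a (c a + t * c b)) :=
  ⟨_, X_mem_GA (fun e => hab (Subtype.ext e)) a.2.1 a.2.2 b.2.1 b.2.2 t, X_vec hab t c⟩

theorem kill {b : BI m lo hi} {c : BI m lo hi → F} (hb : c b = 1) (s : Finset (BI m lo hi)) (hs : b ∉ s) :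
    Rel Fr lo hi c (fun k => if k ∈ s then 0 else c k) := by
  induction s using Finset.induction_on with
  | empty =>
    have : (fun k => if k ∈ (∅ : Finset (BI m lo hi)) then 0 else c k) = c := by
      funext k
      simp
    rw [this]
    exact Rel.refl _
  | insert a s ha ih =>
    have hbs : b ∉ s := fun h => hs (Finset.mem_insert_of_mem h)
    have hab : a ≠ b := fun e => hs (by rw [← e]; exact Finset.mem_insert_self _ _)
    have h1 := ih hbs
    have h2 := step (Fr := Fr) hab (-(c a)) (fun k => if k ∈ s then 0 else c k)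
    have h3 : Function.update (fun k => if k ∈ s then 0 else c k) a
        ((if a ∈ s then 0 else c a) + -(c a) * (if b ∈ s then 0 else c b)) =
        (fun k => if k ∈ insert a s then 0 else c k) := by
      funext k
      by_cases hk : k = a
      · subst hk
        rw [Function.update_self, if_neg ha, if_neg hbs, hb, if_pos (Finset.mem_insert_self _ _)]
        ring
      · rw [Function.update_of_ne hk]
        simp only [Finset.mem_insert, hk, false_or]
    rw [← h3]
    exact h1.trans h2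

theorem to_single {b : BI m lo hi} {c : BI m lo hi → F} (hb : c b = 1) : Rel Fr lo hi c (Pi.single b 1) := by
  have h1 := kill (Fr := Fr) hb (Finset.univ.erase b) (Finset.notMem_erase _ _)
  have h2 : (fun k => if k ∈ Finset.univ.erase b then 0 else c k) = (Pi.single b 1 : BI m lo hi → F) := by
    funext k
    by_cases hk : k = b
    · subst hk
      simp [hb]
    · simp [hk]
  rwa [h2] at h1

theorem single_single (b b' : BI m lo hi) : Rel Fr lo hi (Pi.single b (1 : F)) (Pi.single b' 1) := by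
  by_cases h : b = b'
  · subst h
    exact Rel.refl _
  · have h1 := step (Fr := Fr) (a := b') (b := b) (Ne.symm h) 1 (Pi.single b (1 : F))
    refine h1.trans (to_single ?_)
    rw [Function.update_self, Pi.single_eq_of_ne (Ne.symm h), Pi.single_eq_same]
    ring

theorem rel_single [Nontrivial (BI m lo hi)] {c : BI m lo hi → F} (hc : c ≠ 0) (b : BI m lo hi) :
    Rel Fr lo hi c (Pi.single b 1) := by
  obtain ⟨a, ha⟩ := Function.ne_iff.1 hc
  have ha' : c a ≠ 0 := ha
  obtain ⟨b', hb'⟩ := exists_ne a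
  have h1 := step (Fr := Fr) hb' ((1 - c b') / c a) c
  refine (h1.trans (to_single (b := b') ?_)).trans (single_single _ _)
  rw [Function.update_self]
  field_simp
  ring

theorem dvd_card [Finite V] [Finite F] [Nontrivial (BI m lo hi)] :
    Nat.card F ^ Nat.card (BI m lo hi) - 1 ∣ Nat.card (GA Fr lo hi) := by
  have : Finite (V ≃ₗ[F] V) := Finite.of_injective (fun g : V ≃ₗ[F] V => (g : V → V)) DFunLike.coe_injective
  obtain ⟨b, -⟩ := exists_pair_ne (BI m lo hi)
  have h1 : (MulAction.orbit (GA Fr lo hi) (Fr.b (b.1, true))) = (vec Fr lo hi) '' {c | c ≠ 0} := by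
    ext v
    constructor
    · rintro ⟨g, rfl⟩
      have h2 : g.1 (Fr.b (b.1, true)) ∈ Blk Fr lo hi true := (GA_StE g.2 true _).2 (b_mem_Blk b.2.1 b.2.2 _)
      obtain ⟨c, hc⟩ := mem_Blk_iff.1 h2
      refine ⟨c, ?_, hc⟩
      rintro rfl
      rw [map_zero] at hc
      have h3 : Fr.b (b.1, true) = 0 := (g.1.map_eq_zero_iff).1 hc.symm
      have h4 := Fr.hb (b.1, true) (b.1, false)
      rw [h3, H.zero_left] at h4
      simp at h4
    · rintro ⟨c, hc, rfl⟩
      obtain ⟨g, hg, e⟩ := (rel_single (Fr := Fr) hc b).symm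
      rw [vec_single] at e
      exact ⟨⟨g, hg⟩, e⟩
  have h2 : (MulAction.orbit (GA Fr lo hi) (Fr.b (b.1, true))).ncard = Nat.card F ^ Nat.card (BI m lo hi) - 1 := by
    rw [h1, Set.ncard_image_of_injective _ vec_inj]
    have h3 : ({c | c ≠ 0} : Set (BI m lo hi → F)) = {0}ᶜ := by
      ext c
      simp
    rw [h3, Set.ncard_compl, Set.ncard_singleton, Nat.card_fun]
  rw [← h2, ← MulAction.index_stabilizer]
  exact Subgroup.index_dvd_card _

/-- **elements of order `p` of the block** -/
theorem exists_order [Finite V] [Finite F] {p : ℕ} [Fact p.Prime] (h2 : lo + 2 ≤ hi) (hm : hi ≤ m)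
    (hp : p ∣ Nat.card F ^ (hi - lo) - 1) : ∃ y ∈ GA Fr lo hi, y ^ p = 1 ∧ y ≠ 1 := by
  have hcard : Nat.card (BI m lo hi) = hi - lo := by
    have e : BI m lo hi ≃ Fin (hi - lo) :=
      { toFun := fun k => ⟨k.1 - lo, by have := k.2; omega⟩
        invFun := fun j => ⟨⟨j + lo, by omega⟩, by simp only; omega⟩
        left_inv := fun k => Subtype.ext (Fin.ext (by have := k.2; simp only; omega))
        right_inv := fun j => Fin.ext (by simp) }
    rw [Nat.card_congr e, Nat.card_fin]
  have hnt : Nontrivial (BI m lo hi) := by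
    refine ⟨⟨⟨lo, by omega⟩, le_rfl, by simp only; omega⟩, ⟨⟨lo + 1, by omega⟩, by simp only; omega, by simp only; omega⟩, ?_⟩
    intro e
    have := congrArg (fun z : BI m lo hi => (z.1 : ℕ)) e
    simp at this
  have h3 := dvd_card (Fr := Fr) (lo := lo) (hi := hi)
  rw [hcard] at h3
  have : Finite (V ≃ₗ[F] V) := Finite.of_injective (fun g : V ≃ₗ[F] V => (g : V → V)) DFunLike.coe_injective
  obtain ⟨y, hy⟩ := exists_prime_orderOf_dvd_card' (G := GA Fr lo hi) p (hp.trans h3)
  refine ⟨y.1, y.2, ?_, ?_⟩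
  · have := pow_orderOf_eq_one y
    rw [hy] at this
    exact congrArg Subtype.val this
  · intro e
    have h4 : y = 1 := Subtype.ext e
    rw [h4, orderOf_one] at hy
    exact (Fact.out : p.Prime).one_lt.ne hy

end Cfsg.Agent.H754.XZ
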