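import Cfsg.Agent.KFacts.RgdDiag
import Cfsg.Agent.Tits.ExtAux

/-!
# Intersections of standard parabolic subgroups and of Levi subgroups of a group with a root group datum (helper754)
-/

set_option autoImplicit false
set_option linter.unusedSectionVars false

open Cfsg Subgroup

namespace Cfsg.Agent.H754.XZ

open CoxeterSystem Cfsg.Agent.ChevalleyStructure.CoxeterGeom Cfsg.Agent.Tits.Roots Cfsg.Agent.Tits.Core
  Cfsg.Agent.Tits.Exchange Cfsg.Agent.Nodes.Reps Cfsg.Agent.Nodes.BNOf Cfsg.Agent.Nodes.StabComb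
  Cfsg.Agent.Nodes.Bruhat Cfsg.Agent.Nodes.OppDec Cfsg.Agent.Nodes.LeviDec Cfsg.Agent.KFacts.RgdOpp
  Cfsg.Agent.KFacts.RgdAut Cfsg.Agent.KFacts.RgdDiag

variable {I W Y : Type*} [Fintype I] [DecidableEq I] [Group W] [Group Y] {M : CoxeterMatrix I}
  {cs : CoxeterSystem M W} {A : I → I → ℤ} {h : IsCartan M A} {p : ℕ} {T : Subgroup Y} {n : I → Y}
  {X : (I → ℤ) → Subgroup Y}

section

variable (R : RGD cs h p T n X)

include R

theorem PJ_inf_PJ [Finite W] (J K : Set I) : PJ cs h T X J ⊓ PJ cs h T X K = PJ cs h T X (J ∩ K) := by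
  ext g
  rw [Subgroup.mem_inf, mem_PJ_iff_cell R, mem_PJ_iff_cell R, mem_PJ_iff_cell R]
  constructor
  · rintro ⟨⟨w, hw, hc⟩, ⟨w', hw', hc'⟩⟩
    have e := Cell.unique R hc hc'
    subst e
    exact ⟨w, Cfsg.Agent.Tits.Ext.WJ_inter Cfsg.Agent.Tits.Ext.simple_injective hw hw', hc⟩
  · rintro ⟨w, hw, hc⟩
    exact ⟨⟨w, WJ_mono cs Set.inter_subset_left hw, hc⟩, ⟨w, WJ_mono cs Set.inter_subset_right hw, hc⟩⟩

theorem PNJ_inf_PNJ [Finite W] (J K : Set I) : PNJ cs h T X J ⊓ PNJ cs h T X K = PNJ cs h T X (J ∩ K) := by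
  rw [← PJ_opp, ← PJ_opp, ← PJ_opp]
  exact PJ_inf_PJ (opp R) J K

/-- **[D4-int]** `L_J ∩ L_K = L_{J ∩ K}` -/
theorem LJ_inf_LJ [Finite W] (J K : Set I) : LJ cs h T X J ⊓ LJ cs h T X K = LJ cs h T X (J ∩ K) := by
  rw [← PJ_inf_PNJ R J, ← PJ_inf_PNJ R K, ← PJ_inf_PNJ R (J ∩ K), ← PJ_inf_PJ R, ← PNJ_inf_PNJ R]
  ext g
  simp only [Subgroup.mem_inf]
  tauto

end

end Cfsg.Agent.H754.XZ
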